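import Mathlib
import Groth.Agent.Lib.FanoGen.Incidence
import Groth.Agent.Lib.FanoLine.Independent

/-!
# A general form vanishing on a coordinate subspace is smooth
-/

set_option linter.all false

namespace GrothLib.FanoSmooth

open MvPolynomial GrothLib.FanoGen

universe u

variable {k : Type u} [Field k] {n d : ℕ}

theorem eval_smul_point {p : MvPolynomial (Fin (n + 1)) k} (hp : p.IsHomogeneous d) (c : k) (v : Fin (n + 1) → k) :
    eval (c • v) p = c ^ d * eval v p := by
  rw [eval_eq', eval_eq', Finset.mul_sum]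
  refine Finset.sum_congr rfl fun e he => ?_
  have hdeg : ∑ i, e i = d := by
    have : e.degree = d := by
      by_contra h
      exact mem_support_iff.1 he (hp.coeff_eq_zero h)
    rwa [Finsupp.degree_eq_sum] at this
  simp only [Pi.smul_apply, smul_eq_mul, mul_pow, Finset.prod_mul_distrib, Finset.prod_pow_eq_pow_sum, hdeg]
  ring

theorem eval_single_one {p : MvPolynomial (Fin (n + 1)) k} (hp : p.IsHomogeneous d) (j : Fin (n + 1)) :
    eval (Pi.single j 1) p = p.coeff (Finsupp.single j d) := by
  classical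
  rw [eval_eq', Finset.sum_eq_single (Finsupp.single j d)]
  · rw [Finset.prod_eq_single j]
    · simp
    · intro i _ hi; simp [Finsupp.single_apply, Ne.symm hi]
    · simp
  · intro e he hne
    obtain ⟨i, hij, hi⟩ : ∃ i, i ≠ j ∧ e i ≠ 0 := by
      by_contra! h
      refine hne (Finsupp.ext fun i => ?_)
      by_cases hi : i = j
      · subst hi
        have hdeg : e.degree = d := by
          by_contra hh
          exact mem_support_iff.1 he (hp.coeff_eq_zero hh)
        rw [Finsupp.degree_eq_sum, Finset.sum_eq_single i (fun l _ hl => h l hl) (by simp)] at hdeg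
        simpa using hdeg
      · simp [Finsupp.single_apply, Ne.symm hi, h i hi]
    exact mul_eq_zero_of_right _ (Finset.prod_eq_zero (Finset.mem_univ i) (by simp [Pi.single_apply, hij, zero_pow hi]))
  · intro h
    rw [notMem_support_iff.1 h, zero_mul]

/-- exponents of monomials vanishing on the coordinate subspace -/
abbrev Kap (n d r : ℕ) : Type := {e : Expo n d // ∃ i : Fin (n + 1), r ≤ (i : ℕ) ∧ e.1 i ≠ 0}

/-- the form of coefficients -/
noncomputable def form (r : ℕ) (a : Kap n d r → k) : MvPolynomial (Fin (n + 1)) k :=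
  ∑ e : Kap n d r, monomial e.1.1 (a e)

theorem form_homogeneous (r : ℕ) (a : Kap n d r → k) : (form r a).IsHomogeneous d :=
  IsHomogeneous.sum _ _ _ fun e _ => isHomogeneous_monomial _ (mem_expo.1 e.1.2)

theorem coeff_form (r : ℕ) (a : Kap n d r → k) (e : Kap n d r) : (form r a).coeff e.1.1 = a e := by
  classical
  rw [form, coeff_sum, Finset.sum_eq_single e]
  · simp
  · intro b _ hb
    rw [coeff_monomial, if_neg fun h => hb (Subtype.ext (Subtype.ext h))]
  · simp

theorem form_mem (r : ℕ) (a : Kap n d r → k) :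
    form r a ∈ Ideal.span (X '' {i : Fin (n + 1) | r ≤ (i : ℕ)}) := by
  refine Submodule.sum_mem _ fun e _ => ?_
  rw [mem_ideal_span_X_image]
  intro m hm
  classical
  have := support_monomial_subset hm
  rw [Finset.mem_singleton] at this
  obtain ⟨i, hi, hi'⟩ := e.2
  exact ⟨i, hi, this ▸ hi'⟩

theorem eq_form {r : ℕ} {p : MvPolynomial (Fin (n + 1)) k} (hp : p.IsHomogeneous d)
    (hK : p ∈ Ideal.span (X '' {i : Fin (n + 1) | r ≤ (i : ℕ)})) :
    p = form r fun e : Kap n d r => p.coeff e.1.1 := by
  classical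
  refine MvPolynomial.ext _ _ fun m => ?_
  by_cases hm : m.degree = d ∧ ∃ i : Fin (n + 1), r ≤ (i : ℕ) ∧ m i ≠ 0
  · exact (coeff_form r (fun e : Kap n d r => p.coeff e.1.1) ⟨⟨m, mem_expo.2 hm.1⟩, hm.2⟩).symm
  · have h0 : p.coeff m = 0 := by
      by_contra h
      refine hm ⟨?_, mem_ideal_span_X_image.1 hK m (mem_support_iff.2 h)⟩
      by_contra hh
      exact h (hp.coeff_eq_zero hh)
    rw [h0, form, coeff_sum]
    refine (Finset.sum_eq_zero fun e _ => ?_).symm
    rw [coeff_monomial, if_neg]
    rintro rfl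
    exact hm ⟨mem_expo.1 e.1.2, e.2⟩

/-- substitution moving `e_j` to `v` -/
noncomputable def move {R : Type*} [CommRing R] (j : Fin (n + 1)) (v : Fin (n + 1) → R) (i : Fin (n + 1)) :
    MvPolynomial (Fin (n + 1)) R :=
  if i = j then X j else X i + C (v i) * X j

theorem move_comp {R : Type*} [CommRing R] (j : Fin (n + 1)) (v : Fin (n + 1) → R)
    (p : MvPolynomial (Fin (n + 1)) R) : aeval (move j (-v)) (aeval (move j v) p) = p := by
  have : (aeval (move j (-v))).comp (aeval (move j v)) = AlgHom.id R _ := by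
    refine algHom_ext fun i => ?_
    rw [AlgHom.comp_apply, aeval_X, AlgHom.id_apply]
    by_cases h : i = j
    · subst h; simp [move]
    · simp [move, h]
  exact congr($this p)

theorem map_aeval_move {R S : Type*} [CommRing R] [CommRing S] (f : R →+* S) (j : Fin (n + 1))
    (v : Fin (n + 1) → R) (w : Fin (n + 1) → S) (hvw : ∀ i, i ≠ j → f (v i) = w i)
    (m : Fin (n + 1) →₀ ℕ) :
    MvPolynomial.map f (aeval (move j v) (monomial m (1 : R))) = aeval (move j w) (monomial m (1 : S)) := by
  rw [aeval_monomial, aeval_monomial, map_one, map_one, one_mul, one_mul, map_finsuppProd]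
  refine Finsupp.prod_congr fun i _ => ?_
  rw [map_pow]
  congr 1
  by_cases hi : i = j
  · simp [move, hi]
  · simp [move, hi, hvw i hi]

/-- the smooth forms contain a nonempty principal open -/
theorem exists_poly [Infinite k] (hd : 2 ≤ d) (r : ℕ) (hr : 2 * r ≤ n + 1) :
    ∃ P : MvPolynomial (Kap n d r) k, P ≠ 0 ∧ ∀ a : Kap n d r → k, eval a P ≠ 0 →
      ∀ v : Fin (n + 1) → k, v ≠ 0 → eval v (form r a) = 0 →
        ∃ i, eval v (pderiv i (form r a)) ≠ 0 := by
  classical
  have hchart : ∀ j : Fin (n + 1), ∃ P : MvPolynomial (Kap n d r) k, P ≠ 0 ∧ ∀ a : Kap n d r → k, eval a P ≠ 0 →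
      ∀ v : Fin (n + 1) → k, v j = 1 → ((j : ℕ) < r → ∀ i : Fin (n + 1), r ≤ (i : ℕ) → v i = 0) →
        eval v (form r a) = 0 → ∃ i, eval v (pderiv i (form r a)) ≠ 0 := by
    intro j
    let Yi := {i : Fin (n + 1) // i ≠ j ∧ ((j : ℕ) < r → (i : ℕ) < r)}
    let Zi := {i : Fin (n + 1) // r ≤ (i : ℕ) ∨ r ≤ (j : ℕ)}
    have hYZ : Fintype.card Yi < Fintype.card Zi := by
      rw [Fintype.card_subtype, Fintype.card_subtype]
      by_cases hj : r ≤ (j : ℕ)
      · refine Finset.card_lt_card (Finset.ssubset_iff_of_subset ?_ |>.2 ⟨j, ?_, ?_⟩)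
        · intro i hi
          simp only [Finset.mem_filter, Finset.mem_univ, true_and] at hi ⊢
          exact Or.inr hj
        · simp [hj]
        · simp
      · have hlt : (Finset.univ.filter fun i : Fin (n + 1) => (i : ℕ) < r).card = r := by
          rw [show (Finset.univ.filter fun i : Fin (n + 1) => (i : ℕ) < r) = Finset.Iio ⟨r, by omega⟩ by
            ext i; simp [Fin.lt_def]]
          simp
        have h1 : (Finset.univ.filter fun i : Fin (n + 1) => i ≠ j ∧ ((j : ℕ) < r → (i : ℕ) < r)) ⊆
            (Finset.univ.filter fun i : Fin (n + 1) => (i : ℕ) < r).erase j := by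
          intro i hi
          simp only [Finset.mem_filter, Finset.mem_univ, true_and] at hi
          simp only [Finset.mem_erase, Finset.mem_filter, Finset.mem_univ, true_and]
          exact ⟨hi.1, hi.2 (not_le.1 hj)⟩
        have h2 := Finset.card_le_card h1
        rw [Finset.card_erase_of_mem (by simp; omega), hlt] at h2
        have h3 : (Finset.univ.filter fun i : Fin (n + 1) => r ≤ (i : ℕ) ∨ r ≤ (j : ℕ)).card = n + 1 - r := by
          have hc : (Finset.univ.filter fun i : Fin (n + 1) => r ≤ (i : ℕ) ∨ r ≤ (j : ℕ)) =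
              (Finset.univ.filter fun i : Fin (n + 1) => (i : ℕ) < r)ᶜ := by
            ext i; simp [hj]
          rw [hc, Finset.card_compl, hlt, Fintype.card_fin]
        omega
    have hmemZ : ∀ z : Zi, Finsupp.single j (d - 1) + Finsupp.single z.1 1 ∈
        (Finset.univ : Finset (Fin (n + 1))).finsuppAntidiag d := fun z =>
      mem_expo.2 (by rw [map_add, Finsupp.degree_single, Finsupp.degree_single]; omega)
    have hexZ : ∀ z : Zi, ∃ i : Fin (n + 1), r ≤ (i : ℕ) ∧
        (Finsupp.single j (d - 1) + Finsupp.single z.1 1 : Fin (n + 1) →₀ ℕ) i ≠ 0 := fun z => by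
      rcases z.2 with h | h
      · exact ⟨z.1, h, by simp⟩
      · refine ⟨j, h, ?_⟩
        rw [Finsupp.add_apply, Finsupp.single_eq_same]
        omega
    let fz : Zi → Kap n d r := fun z => ⟨⟨_, hmemZ z⟩, hexZ z⟩
    have hfz : Function.Injective fz := fun z z' h => by
      have h' := congrArg (fun e : Kap n d r => e.1.1) h
      simp only [fz, add_right_inj] at h'
      exact Subtype.ext ((Finsupp.single_left_inj one_ne_zero).1 h')
    let Rest := {e : Kap n d r // e ∉ Set.range fz}
    have hcard : Fintype.card (Yi ⊕ Rest) < Fintype.card (Kap n d r) := by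
      rw [Fintype.card_sum, Fintype.card_subtype_compl, show Fintype.card {e : Kap n d r // e ∈ Set.range fz} = Fintype.card Zi from
        Set.card_range_of_injective hfz]
      have := Fintype.card_le_of_injective fz hfz
      omega
    let vX : Fin (n + 1) → MvPolynomial (Yi ⊕ Rest) k := fun i =>
      if h : i ≠ j ∧ ((j : ℕ) < r → (i : ℕ) < r) then X (Sum.inl ⟨i, h⟩) else 0
    let φ : Kap n d r → MvPolynomial (Yi ⊕ Rest) k := fun c =>
      MvPolynomial.coeff c.1.1 (∑ e : Rest, C (X (Sum.inr e)) *
        aeval (move j (-vX)) (monomial e.1.1.1 (1 : MvPolynomial (Yi ⊕ Rest) k)))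
    obtain ⟨P, hP, hPmiss⟩ := exists_missed hcard φ
    refine ⟨P, hP, fun a ha v hvj hvU hFv => ?_⟩
    by_contra! hbad
    set F := form r a with hF
    set H := aeval (move j v) F with hH
    have hm1 : ∀ i, (move (R := k) j v i).IsHomogeneous 1 := fun i => by
      rw [move]; split_ifs
      · exact isHomogeneous_X k j
      · exact (isHomogeneous_X k i).add ((isHomogeneous_X k j).C_mul _)
    have hHhom : H.IsHomogeneous d := by
      simpa [hH] using IsHomogeneous.aeval (form_homogeneous r a) (move j v) hm1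
    have hHK : H ∈ Ideal.span (X '' {i : Fin (n + 1) | r ≤ (i : ℕ)}) := by
      have hle : Ideal.map (aeval (R := k) (move j v)).toRingHom (Ideal.span (X '' {i : Fin (n + 1) | r ≤ (i : ℕ)})) ≤
          Ideal.span (X '' {i : Fin (n + 1) | r ≤ (i : ℕ)}) := by
        rw [Ideal.map_span, Ideal.span_le]
        rintro _ ⟨_, ⟨i, hi, rfl⟩, rfl⟩
        show aeval (move j v) (X i) ∈ _
        rw [aeval_X, move]
        split_ifs with h
        · exact Ideal.subset_span ⟨j, h ▸ hi, rfl⟩
        · refine Ideal.add_mem _ (Ideal.subset_span ⟨i, hi, rfl⟩) ?_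
          by_cases hj : r ≤ (j : ℕ)
          · exact Ideal.mul_mem_left _ _ (Ideal.subset_span ⟨j, hj, rfl⟩)
          · rw [hvU (not_le.1 hj) i hi, map_zero, zero_mul]; exact Ideal.zero_mem _
      exact hle (Ideal.mem_map_of_mem _ (form_mem r a))
    have hev : ∀ g : MvPolynomial (Fin (n + 1)) k, eval (Pi.single j 1) (aeval (move j v) g) = eval v g := by
      intro g
      have : (eval (Pi.single j (1 : k))).comp (aeval (move j v)).toRingHom = eval v :=
        MvPolynomial.ringHom_ext (fun r => by simp) fun i => by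
          by_cases h : i = j
          · subst h; simp [move, hvj]
          · simp [move, h, Pi.single_apply]
      exact congr($this g)
    have hzero : ∀ z : Zi, H.coeff (fz z).1.1 = 0 := by
      intro z
      show H.coeff (Finsupp.single j (d - 1) + Finsupp.single z.1 1) = 0
      by_cases hzj : z.1 = j
      · rw [hzj, ← Finsupp.single_add, show d - 1 + 1 = d by omega, ← eval_single_one hHhom, hev]
        exact hFv
      · have h1 := eval_single_one (hHhom.pderiv (i := z.1)) j
        rw [coeff_pderiv, Finsupp.single_apply, if_neg (Ne.symm hzj), Nat.cast_zero, zero_add, mul_one] at h1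
        rw [← h1, hH, GrothLib.FanoLine.pderiv_aeval, map_sum, Finset.sum_eq_single z.1]
        · rw [map_mul, hev, hbad, zero_mul]
        · intro l _ hl
          have : pderiv z.1 (move (R := k) j v l) = 0 := by
            rw [move]; split_ifs <;> simp [pderiv_X, Pi.single_apply, hzj, hl, Ne.symm hzj, Ne.symm hl]
          rw [this, mul_zero, map_zero]
        · simp
    let y : Yi ⊕ Rest → k := Sum.elim (fun i => v i.1) fun e => H.coeff e.1.1.1
    refine hPmiss a ha y fun c => ?_
    have hHsum : H = ∑ e : Rest, monomial e.1.1.1 (H.coeff e.1.1.1) := by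
      conv_lhs => rw [eq_form hHhom hHK, form]
      refine (Finset.sum_subset (s₁ := (Finset.univ.filter fun e : Kap n d r => e ∉ Set.range fz))
        (Finset.subset_univ _) fun e _ he => ?_).symm.trans ?_
      · simp only [Finset.mem_filter, Finset.mem_univ, true_and, not_not] at he
        obtain ⟨z, rfl⟩ := he
        rw [hzero, monomial_zero]
      · exact (Finset.sum_subtype _ (fun e => by simp) fun e : Kap n d r => monomial e.1.1 (H.coeff e.1.1))
    have hfix : ∀ i, i ≠ j → eval y ((-vX) i) = (-v) i := fun i hi => by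
      simp only [Pi.neg_apply, map_neg, neg_inj]
      simp only [vX]
      by_cases h : i ≠ j ∧ ((j : ℕ) < r → (i : ℕ) < r)
      · rw [dif_pos h, eval_X]; rfl
      · rw [dif_neg h, map_zero]
        have h1 : ¬ ((j : ℕ) < r → (i : ℕ) < r) := fun hh => h ⟨hi, hh⟩
        push Not at h1
        exact (hvU h1.1 i h1.2).symm
    have hFH : F = ∑ e : Rest, C (H.coeff e.1.1.1) * aeval (move j (-v)) (monomial e.1.1.1 (1 : k)) := by
      conv_lhs => rw [← move_comp j v F, ← hH, hHsum, map_sum]
      refine Finset.sum_congr rfl fun e _ => ?_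
      rw [show monomial e.1.1.1 (H.coeff e.1.1.1) = C (H.coeff e.1.1.1) * monomial e.1.1.1 1 by
        rw [C_mul_monomial, mul_one], map_mul, aeval_C]
      rfl
    have hmap : ∀ e : Rest, MvPolynomial.map (eval y)
        (aeval (move j (-vX)) (monomial e.1.1.1 (1 : MvPolynomial (Yi ⊕ Rest) k))) =
        aeval (move j (-v)) (monomial e.1.1.1 (1 : k)) := fun e =>
      map_aeval_move (eval y) j (-vX) (-v) hfix e.1.1.1
    show eval y (φ c) = a c
    rw [← coeff_form r a c, ← hF, hFH]
    simp only [φ]
    rw [← MvPolynomial.coeff_map, map_sum]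
    refine congrArg (MvPolynomial.coeff c.1.1) (Finset.sum_congr rfl fun e _ => ?_)
    rw [map_mul, map_C, eval_X, hmap]
    simp only [y, Sum.elim_inr]
  choose Pj hPj hbadj using hchart
  refine ⟨∏ j, Pj j, Finset.prod_ne_zero_iff.2 fun j _ => hPj j, fun a ha v hv hFv => ?_⟩
  rw [map_prod, Finset.prod_ne_zero_iff] at ha
  obtain ⟨j, hj, hjU⟩ : ∃ j, v j ≠ 0 ∧ ((j : ℕ) < r → ∀ i : Fin (n + 1), r ≤ (i : ℕ) → v i = 0) := by
    by_cases h : ∃ i : Fin (n + 1), r ≤ (i : ℕ) ∧ v i ≠ 0
    · obtain ⟨i, hi, hvi⟩ := h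
      exact ⟨i, hvi, fun h => absurd h (not_lt.2 hi)⟩
    · push Not at h
      obtain ⟨j, hj⟩ := Function.ne_iff.1 hv
      exact ⟨j, hj, fun _ i hi => h i hi⟩
  obtain ⟨i, hi⟩ := hbadj j a (ha j (Finset.mem_univ j)) ((v j)⁻¹ • v) (by simp [hj])
    (fun h i hi => by simp [hjU h i hi])
    (by rw [eval_smul_point (form_homogeneous r a), hFv, mul_zero])
  rw [eval_smul_point ((form_homogeneous r a).pderiv)] at hi
  exact ⟨i, right_ne_zero_of_mul hi⟩

end GrothLib.FanoSmooth

namespace GrothLib.FanoSmooth

open MvPolynomial GrothLib.FanoGen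

universe u

variable {k : Type u} [Field k] {n d : ℕ}

/-- substitution of the linear forms of a linear map -/
noncomputable def linSub (T : (Fin (n + 1) → k) →ₗ[k] (Fin (n + 1) → k)) (l : Fin (n + 1)) :
    MvPolynomial (Fin (n + 1)) k :=
  ∑ i, C (T (Pi.single i 1) l) * X i

theorem linSub_homogeneous (T : (Fin (n + 1) → k) →ₗ[k] (Fin (n + 1) → k)) (l : Fin (n + 1)) :
    (linSub T l).IsHomogeneous 1 :=
  IsHomogeneous.sum _ _ _ fun i _ => (isHomogeneous_X k i).C_mul _

theorem eval_linSub (T : (Fin (n + 1) → k) →ₗ[k] (Fin (n + 1) → k)) (w : Fin (n + 1) → k)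
    (G : MvPolynomial (Fin (n + 1)) k) : eval w (aeval (linSub T) G) = eval (T w) G := by
  have hT : ∀ l, eval w (linSub T l) = T w l := fun l => by
    conv_rhs => rw [show w = ∑ i, w i • (Pi.single i 1 : Fin (n + 1) → k) from pi_eq_sum_univ' w]
    simp [linSub, map_sum, Finset.sum_apply, mul_comm]
  have : (eval w).comp (aeval (linSub T)).toRingHom = eval (T w) :=
    MvPolynomial.ringHom_ext (fun r => by simp) fun i => by simp [hT]
  exact congr($this G)

theorem mem_span_iff [Infinite k] (r : ℕ) (H : MvPolynomial (Fin (n + 1)) k) :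
    H ∈ Ideal.span (X '' {i : Fin (n + 1) | r ≤ (i : ℕ)}) ↔
      ∀ w : Fin (n + 1) → k, (∀ i : Fin (n + 1), r ≤ (i : ℕ) → w i = 0) → eval w H = 0 := by
  classical
  constructor
  · intro h w hw
    have : Ideal.span (X '' {i : Fin (n + 1) | r ≤ (i : ℕ)}) ≤ RingHom.ker (eval w) := by
      rw [Ideal.span_le]
      rintro _ ⟨i, hi, rfl⟩
      simp [hw i hi]
    exact this h
  · intro h
    let π : MvPolynomial (Fin (n + 1)) k →ₐ[k] MvPolynomial (Fin (n + 1)) k :=
      aeval fun i : Fin (n + 1) => if r ≤ (i : ℕ) then 0 else X i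
    have h0 : π H = 0 := MvPolynomial.funext fun w => by
      rw [map_zero]
      have : (eval w).comp π.toRingHom = eval (fun i : Fin (n + 1) => if r ≤ (i : ℕ) then 0 else w i) :=
        MvPolynomial.ringHom_ext (fun r => by simp [π]) fun i => by
          by_cases hi : r ≤ (i : ℕ) <;> simp [π, hi]
      exact (congr($this H)).trans (h _ fun i hi => if_pos hi)
    have hq : (Ideal.Quotient.mkₐ k (Ideal.span (X '' {i : Fin (n + 1) | r ≤ (i : ℕ)}))).comp π =
        Ideal.Quotient.mkₐ k _ := by
      refine algHom_ext fun i => ?_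
      by_cases hi : r ≤ (i : ℕ)
      · simp only [AlgHom.comp_apply, π, aeval_X, if_pos hi, map_zero]
        exact ((Ideal.Quotient.eq_zero_iff_mem (I := Ideal.span (X '' {i : Fin (n + 1) | r ≤ (i : ℕ)}))).2 (Ideal.subset_span (Set.mem_image_of_mem X hi))).symm
      · simp [π, hi]
    have := congr($hq H)
    rw [AlgHom.comp_apply, h0, map_zero] at this
    exact Ideal.Quotient.eq_zero_iff_mem.1 this.symm

theorem exists_adapted_basis (U : Submodule k (Fin (n + 1) → k)) :
    ∃ T : (Fin (n + 1) → k) ≃ₗ[k] (Fin (n + 1) → k), ∀ w : Fin (n + 1) → k,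
      T w ∈ U ↔ ∀ i : Fin (n + 1), Module.finrank k U ≤ (i : ℕ) → w i = 0 := by
  classical
  obtain ⟨U', hc⟩ := U.exists_isCompl
  have hsum : Module.finrank k U + Module.finrank k U' = n + 1 := by
    rw [Submodule.finrank_add_eq_of_isCompl hc, Module.finrank_fin_fun]
  let idx : Fin (Module.finrank k U) ⊕ Fin (Module.finrank k U') ≃ Fin (n + 1) :=
    finSumFinEquiv.trans (finCongr hsum)
  let b : Module.Basis (Fin (n + 1)) k (Fin (n + 1) → k) :=
    ((((Module.finBasis k U).prod (Module.finBasis k U')).map (Submodule.prodEquivOfIsCompl U U' hc))).reindex idx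
  refine ⟨b.equivFun.symm, fun w => ?_⟩
  let T' : (Fin (n + 1) → k) ≃ₗ[k] U × U' := (b.equivFun.symm).trans (Submodule.prodEquivOfIsCompl U U' hc).symm
  have h2 : b.equivFun.symm w ∈ U ↔ ((Submodule.prodEquivOfIsCompl U U' hc).symm (b.equivFun.symm w)).2 = 0 :=
    (Submodule.prodEquivOfIsCompl_symm_apply_snd_eq_zero U U' hc).symm
  have h3 : ∀ l : Fin (Module.finrank k U'),
      (Module.finBasis k U').repr ((Submodule.prodEquivOfIsCompl U U' hc).symm (b.equivFun.symm w)).2 l =
        w (idx (Sum.inr l)) := by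
    intro l
    have h := congrFun (b.equivFun.apply_symm_apply w) (idx (Sum.inr l))
    generalize b.equivFun.symm w = z at h ⊢
    simpa [b, Module.Basis.equivFun_apply, Module.Basis.repr_reindex_apply, Module.Basis.map_repr] using h
  rw [h2]
  constructor
  · intro h i hi
    obtain ⟨s, rfl⟩ := idx.surjective i
    cases s with
    | inl l =>
      exfalso
      have := l.2
      simp [idx] at hi
      omega
    | inr l => rw [← h3 l, h]; simp
  · intro h
    refine (Module.finBasis k U').ext_elem fun l => ?_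
    rw [h3 l, map_zero]
    exact h _ (by simp [idx])

end GrothLib.FanoSmooth
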